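import Mathlib
import Groth.Prelude.Def_W4swconnpcurvhiggsLogLam

set_option autoImplicit false
set_option linter.unusedSectionVars false
set_option linter.unusedVariables false
set_option linter.unusedSimpArgs false
set_option linter.style.haveILetI false
set_option maxHeartbeats 400000

/-!
# Tensor expansions in a basis and wedge coordinates
-/

open TensorProduct

namespace Groth.Agent.Lib.Helper6.LogC

universe u

variable {B L E F : Type u} [CommRing B] [AddCommGroup L] [Module B L]
  [AddCommGroup E] [Module B E] [AddCommGroup F] [Module B F]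

/-- expansion of an element of `E ⊗ F` in a finite basis of `F` -/
lemma tensor_expand {κ : Type*} [Fintype κ] (b : Module.Basis κ B F) (y : E ⊗[B] F) :
    y = ∑ k, (TensorProduct.rid B E (TensorProduct.map LinearMap.id (b.coord k) y)) ⊗ₜ[B] b k := by
  classical
  induction y using TensorProduct.induction_on with
  | zero => simp
  | tmul e l =>
    simp only [TensorProduct.map_tmul, LinearMap.id_apply, TensorProduct.rid_tmul]
    conv_lhs => rw [← b.sum_repr l, TensorProduct.tmul_sum]
    apply Finset.sum_congr rfl
    intro k _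
    rw [TensorProduct.tmul_smul, TensorProduct.smul_tmul', Module.Basis.coord_apply]
  | add y z hy hz =>
    conv_lhs => rw [hy, hz]
    rw [← Finset.sum_add_distrib]
    apply Finset.sum_congr rfl
    intro k _
    rw [map_add, map_add, TensorProduct.add_tmul]

/-- wedge of a one-form with a pure wedge -/
lemma wedge_oneEquiv_symm_ιMulti (p : ℕ) (x : L) (v : Fin p → L) :
    Conn.wedge p ((exteriorPower.oneEquiv B L).symm x) (exteriorPower.ιMulti B p v) =
      exteriorPower.ιMulti B (p + 1) (Fin.cons x v) := by
  apply Subtype.ext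
  rw [Conn.wedge_apply_coe, exteriorPower.oneEquiv_symm_apply, exteriorPower.ιMulti_apply_coe,
    exteriorPower.ιMulti_apply_coe, exteriorPower.ιMulti_apply_coe,
    ExteriorAlgebra.ιMulti_succ_apply, ExteriorAlgebra.ιMulti_succ_apply,
    ExteriorAlgebra.ιMulti_zero_apply, mul_one]
  simp [Matrix.vecTail]

/-- vanishing of the coordinates of `ω_i ∧ ω_K` except along `K ∪ {i}` -/
lemma coord_wedge_eq_zero {n p : ℕ} (ω : Module.Basis (Fin n) B L) (i : Fin n)
    (K : Set.powersetCard (Fin n) p) (K' : Set.powersetCard (Fin n) (p + 1))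
    (h : ¬ (i ∉ K.val ∧ K'.val = insert i K.val)) :
    (ω.exteriorPower (p + 1)).coord K' (exteriorPower.ιMulti B (p + 1)
      (Fin.cons (ω i) (ω ∘ (Set.powersetCard.ofFinEmbEquiv.symm K)))) = 0 := by
  classical
  rw [exteriorPower.basis_coord, exteriorPower.ιMultiDual_apply_ιMulti]
  by_cases hi : i ∈ K.val
  · obtain ⟨k, hk⟩ := (Set.powersetCard.mem_range_ofFinEmbEquiv_symm_iff_mem K i).mpr hi
    apply Matrix.det_zero_of_row_eq (i := 0) (j := k.succ) (Fin.succ_ne_zero k).symm
    ext c
    simp [hk]
  · have hne : K'.val ≠ insert i K.val := fun h' => h ⟨hi, h'⟩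
    have hcard : (insert i K.val).card = p + 1 := by
      rw [Finset.card_insert_of_notMem hi, K.prop]
    let K'' : Set.powersetCard (Fin n) (p + 1) := Set.powersetCard.ofCard hcard
    have hKK : K' ≠ K'' := fun h' => hne (congrArg Subtype.val h')
    obtain ⟨a, haK', haK''⟩ := (Set.powersetCard.exists_mem_notMem_iff_ne K' K'').mp hKK
    obtain ⟨c, rfl⟩ := (Set.powersetCard.mem_range_ofFinEmbEquiv_symm_iff_mem K' a).mpr haK'
    have haK3 : (Set.powersetCard.ofFinEmbEquiv.symm K') c ∉ insert i K.val := haK''
    rw [Finset.mem_insert, not_or] at haK3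
    apply Matrix.det_eq_zero_of_column_eq_zero c
    intro r
    refine Fin.cases ?_ (fun k => ?_) r
    · simp only [Matrix.of_apply, Fin.cons_zero, Module.Basis.coord_apply, Module.Basis.repr_self]
      exact Finsupp.single_eq_of_ne haK3.1
    · simp only [Matrix.of_apply, Fin.cons_succ, Function.comp_apply, Module.Basis.coord_apply,
        Module.Basis.repr_self]
      apply Finsupp.single_eq_of_ne
      intro heq
      apply haK3.2
      rw [heq]
      have := (Set.powersetCard.mem_range_ofFinEmbEquiv_symm_iff_mem K
        ((Set.powersetCard.ofFinEmbEquiv.symm K) k)).mp ⟨k, rfl⟩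
      exact this

end Groth.Agent.Lib.Helper6.LogC
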