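import Mathlib
import Groth.Prelude.Def_Conn
import Groth.Prelude.Def_LogDiff
import Groth.Prelude.Def_W4swconnpcurvhiggsLogLam
import Groth.Agent.Lib.Helper7.LogConn.Core
import Groth.Agent.Lib.Helper6.LogC.LCa

set_option autoImplicit false
set_option linter.unusedSectionVars false
set_option linter.unusedVariables false
set_option linter.unusedSimpArgs false
set_option linter.style.haveILetI false
set_option maxHeartbeats 400000

/-!
# The extension of a flat logarithmic `λ`-connection preserves the layers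
-/

open TensorProduct

namespace Groth.Agent.Lib.Helper6.LogC

open Groth.Agent.Helper7.LogConnLib

universe v u

variable {A : Type v} {B L E : Type u} [CommRing A] [CommRing B] [Algebra A B]
  [AddCommGroup L] [Module B L] [Module A L] [IsScalarTower A B L]
  [AddCommGroup E] [Module B E] [Module A E] [IsScalarTower A B E]
  (lam : B) {n : ℕ} (t : Fin n → B) (bΩ : Module.Basis (Fin n) B (KaehlerDifferential A B))
  (hbΩ : ∀ i, bΩ i = KaehlerDifferential.D A B (t i))
  (ω : Module.Basis (Fin n) B L) (ι : KaehlerDifferential A B →ₗ[B] L)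
  (hι : ∀ i, ι (KaehlerDifferential.D A B (t i)) = t i • ω i)
  (nabla : E →ₗ[A] E ⊗[B] L)
  (hc : Conn.IsLamConn (ι.compDer (KaehlerDifferential.D A B)) lam nabla)
  (d : ∀ p : ℕ, ↥(⋀[B]^p L) →ₗ[A] ↥(⋀[B]^(p + 1) L))
  (hd : LogDiff.IsLogRule (KaehlerDifferential.D A B) ι (⇑ω) d)
  (nablas : ∀ p : ℕ, E ⊗[B] ↥(⋀[B]^p L) →ₗ[A] E ⊗[B] ↥(⋀[B]^(p + 1) L))
  (hint : Conn.IsIntegrable nabla (fun p => lam • d p) nablas)

lemma nabla_expand (e : E) :
    nabla e = ∑ i, LogConn.comp nabla ω i e ⊗ₜ[B] ω i :=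
  tensor_expand ω (nabla e)

include hd in
lemma d_ιMulti_basis (p : ℕ) (f : Fin p → Fin n) :
    d p (exteriorPower.ιMulti B p (⇑ω ∘ f)) = 0 := by
  have h := hd p 1 (⇑ω ∘ f) (fun k => Or.inr ⟨f k, rfl⟩)
  rw [one_smul] at h
  rw [h]
  apply (exteriorPower.ιMulti B (p + 1)).map_coord_zero (0 : Fin (p + 1))
  rw [Fin.cons_zero, Derivation.map_one_eq_zero, map_zero]

include hd hint in
lemma nablas_tmul_ιMulti (p : ℕ) (f : Fin p → Fin n) (e : E) :
    nablas p (e ⊗ₜ[B] exteriorPower.ιMulti B p (⇑ω ∘ f)) =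
      ∑ i, LogConn.comp nabla ω i e ⊗ₜ[B]
        exteriorPower.ιMulti B (p + 1) (Fin.cons (ω i) (⇑ω ∘ f)) := by
  have h := hint.1 p e (exteriorPower.ιMulti B p (⇑ω ∘ f))
  rw [h]
  have h0 : (fun p => lam • d p) p (exteriorPower.ιMulti B p (⇑ω ∘ f)) = 0 := by
    change (lam • d p) (exteriorPower.ιMulti B p (⇑ω ∘ f)) = 0
    rw [LinearMap.smul_apply, d_ιMulti_basis ω ι d hd p f, smul_zero]
  rw [h0, TensorProduct.tmul_zero, add_zero]
  conv_lhs => rw [nabla_expand ω nabla e]
  rw [map_sum, map_sum, LinearMap.sum_apply]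
  apply Finset.sum_congr rfl
  intro i _
  rw [Conn.toOne_tmul, Conn.twedge_tmul, wedge_oneEquiv_symm_ιMulti]

lemma sum_sum_delta (X : Fin n → Fin n → E) (a b : Fin n) :
    ∑ j, ∑ i, ((ω.coord a (ω i)) * (ω.coord b (ω j))) • X i j = X a b := by
  classical
  rw [Finset.sum_eq_single b]
  · rw [Finset.sum_eq_single a]
    · simp
    · intro i _ hi
      simp [Finsupp.single_apply, hi]
    · intro h; exact absurd (Finset.mem_univ a) h
  · intro j _ hj
    apply Finset.sum_eq_zero
    intro i _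
    simp [Finsupp.single_apply, hj]
  · intro h; exact absurd (Finset.mem_univ b) h

include hd hint in
/-- the components of a flat connection commute -/
lemma comp_comm (a b : Fin n) (m : E) :
    LogConn.comp nabla ω a (LogConn.comp nabla ω b m) =
      LogConn.comp nabla ω b (LogConn.comp nabla ω a m) := by
  have h := hint.2 m
  have h1 : Conn.toOne (nabla m) = ∑ j, LogConn.comp nabla ω j m ⊗ₜ[B]
      exteriorPower.ιMulti B 1 (⇑ω ∘ (fun _ : Fin 1 => j)) := by
    conv_lhs => rw [nabla_expand ω nabla m]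
    rw [map_sum]
    apply Finset.sum_congr rfl
    intro j _
    rw [Conn.toOne_tmul, exteriorPower.oneEquiv_symm_apply]
    rfl
  rw [h1, map_sum] at h
  have h2 : ∀ j, nablas 1 (LogConn.comp nabla ω j m ⊗ₜ[B]
      exteriorPower.ιMulti B 1 (⇑ω ∘ (fun _ : Fin 1 => j))) =
      ∑ i, LogConn.comp nabla ω i (LogConn.comp nabla ω j m) ⊗ₜ[B]
        exteriorPower.ιMulti B 2 (Fin.cons (ω i) (⇑ω ∘ (fun _ : Fin 1 => j))) :=
    fun j => nablas_tmul_ιMulti lam ω ι nabla d hd nablas hint 1 _ _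
  rw [Finset.sum_congr rfl (fun j _ => h2 j)] at h
  -- the linear form picking out `(a, b)`
  let φ : Module.Dual B (⋀[B]^2 L) :=
    exteriorPower.pairingDual B L 2 (exteriorPower.ιMulti B 2 ![ω.coord a, ω.coord b])
  let Φ : E ⊗[B] ↥(⋀[B]^2 L) →ₗ[B] E :=
    (TensorProduct.rid B E).toLinearMap ∘ₗ TensorProduct.map LinearMap.id φ
  have h3 := congrArg Φ h
  rw [map_zero, map_sum] at h3
  have h4 : ∀ i j, Φ (LogConn.comp nabla ω i (LogConn.comp nabla ω j m) ⊗ₜ[B]
      exteriorPower.ιMulti B 2 (Fin.cons (ω i) (⇑ω ∘ (fun _ : Fin 1 => j)))) =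
      ((ω.coord a (ω i)) * (ω.coord b (ω j))) •
          LogConn.comp nabla ω i (LogConn.comp nabla ω j m) -
        ((ω.coord b (ω i)) * (ω.coord a (ω j))) •
          LogConn.comp nabla ω i (LogConn.comp nabla ω j m) := by
    intro i j
    simp only [Φ, LinearMap.comp_apply, LinearEquiv.coe_coe]
    rw [TensorProduct.map_tmul, TensorProduct.rid_tmul, LinearMap.id_apply]
    have : φ (exteriorPower.ιMulti B 2 (Fin.cons (ω i) (⇑ω ∘ (fun _ : Fin 1 => j)))) =
        (ω.coord a (ω i)) * (ω.coord b (ω j)) - (ω.coord b (ω i)) * (ω.coord a (ω j)) := by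
      change exteriorPower.pairingDual B L 2 _ _ = _
      rw [exteriorPower.pairingDual_ιMulti_ιMulti, Matrix.det_fin_two]
      have e0 : (Fin.cons (ω i) (⇑ω ∘ (fun _ : Fin 1 => j)) : Fin 2 → L) 0 = ω i := rfl
      have e1 : (Fin.cons (ω i) (⇑ω ∘ (fun _ : Fin 1 => j)) : Fin 2 → L) 1 = ω j := rfl
      simp only [Matrix.of_apply, e0, e1, Matrix.cons_val_zero, Matrix.cons_val_one]
    rw [this, sub_smul]
  simp_rw [map_sum, h4, Finset.sum_sub_distrib] at h3
  rw [sum_sum_delta ω (fun i j => LogConn.comp nabla ω i (LogConn.comp nabla ω j m)) a b,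
    sum_sum_delta ω (fun i j => LogConn.comp nabla ω i (LogConn.comp nabla ω j m)) b a] at h3
  exact sub_eq_zero.mp h3

/-- for commuting components, `∇_{J ∪ {i}} = ∇_i ∘ ∇_J` -/
lemma compProd_insert_comm
    (hcomm : ∀ (a b : Fin n) (m : E), LogConn.comp nabla ω a (LogConn.comp nabla ω b m) =
      LogConn.comp nabla ω b (LogConn.comp nabla ω a m))
    (i : Fin n) (J : Finset (Fin n)) (hi : i ∉ J) :
    LogConn.compProd nabla ω (insert i J) =
      LogConn.comp nabla ω i ∘ₗ LogConn.compProd nabla ω J := by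
  classical
  unfold LogConn.compProd
  haveI : LeftCommutative (fun (i : Fin n) (φ : E →ₗ[A] E) => LogConn.comp nabla ω i ∘ₗ φ) :=
    ⟨fun a b φ => by
      ext m
      simp only [LinearMap.comp_apply]
      exact hcomm a b (φ m)⟩
  have hperm : List.Perm ((insert i J).sort (· ≤ ·)) (i :: J.sort (· ≤ ·)) := by
    rw [← Multiset.coe_eq_coe, Finset.sort_eq, ← Multiset.cons_coe, Finset.sort_eq,
      Finset.insert_val_of_notMem hi]
  rw [hperm.foldr_eq]
  rfl

include hbΩ hι hc in
lemma comp_mem_piece_insert_comm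
    (hcomm : ∀ (a b : Fin n) (m : E), LogConn.comp nabla ω a (LogConn.comp nabla ω b m) =
      LogConn.comp nabla ω b (LogConn.comp nabla ω a m))
    (j : Fin n) (J : Finset (Fin n)) (hj : j ∉ J) :
    ∀ x ∈ LogConn.piece nabla ω t J,
      LogConn.comp nabla ω j x ∈ LogConn.piece nabla ω t (insert j J) := by
  classical
  refine piece_le_comap t ω nabla J (LogConn.comp nabla ω j) _ ?_
  intro K hK y
  rw [comp_smul lam t bΩ hbΩ ω ι hι nabla hc,
    pd_prod_eq_zero t bΩ hbΩ j (J \ K) (fun hh => hj (Finset.mem_sdiff.mp hh).1),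
    zero_mul, mul_zero, zero_smul, add_zero]
  have h1 : LogConn.comp nabla ω j (LogConn.compProd nabla ω K y) =
      LogConn.compProd nabla ω (insert j K) y := by
    rw [compProd_insert_comm ω nabla hcomm j K (fun h => hj (hK h))]
    rfl
  have h2 : J \ K = insert j J \ insert j K := by
    ext a
    simp only [Finset.mem_sdiff, Finset.mem_insert]
    constructor
    · rintro ⟨ha1, ha2⟩
      refine ⟨Or.inr ha1, ?_⟩
      rintro (ha3 | ha3)
      · exact hj (ha3 ▸ ha1)
      · exact ha2 ha3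
    · rintro ⟨ha1 | ha1, ha2⟩
      · exact absurd (Or.inl ha1) ha2
      · exact ⟨ha1, fun ha3 => ha2 (Or.inr ha3)⟩
  rw [h1, h2]
  exact gen_mem_piece t ω nabla (insert j J) (insert j K) (Finset.insert_subset_insert j hK) y

include hbΩ hι hc hd hint in
theorem main (p : ℕ) (x : E ⊗[B] ↥(⋀[B]^p L)) (hx : x ∈ LogConn.layer nabla ω t p) :
    nablas p x ∈ LogConn.layer nabla ω t (p + 1) := by
  classical
  have hcomm := comp_comm lam ω ι nabla d hd nablas hint
  unfold LogConn.layer at hx ⊢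
  rw [Submodule.mem_iInf] at hx ⊢
  intro K'
  rw [Submodule.mem_comap]
  -- expand `x`
  have hxe : x = ∑ K, (LogConn.coordE (E := E) ω p K x) ⊗ₜ[B] (ω.exteriorPower p K) :=
    tensor_expand (ω.exteriorPower p) x
  have hxK : ∀ K : Set.powersetCard (Fin n) p,
      LogConn.coordE (E := E) ω p K x ∈ LogConn.piece nabla ω t (K : Finset (Fin n)) :=
    fun K => hx K
  rw [hxe, map_sum, map_sum]
  apply Submodule.sum_mem
  intro K _
  rw [exteriorPower.basis_apply]
  change (LogConn.coordE (E := E) ω (p + 1) K')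
    (nablas p (LogConn.coordE (E := E) ω p K x ⊗ₜ[B]
      exteriorPower.ιMulti B p (⇑ω ∘ (Set.powersetCard.ofFinEmbEquiv.symm K)))) ∈ _
  rw [nablas_tmul_ιMulti lam ω ι nabla d hd nablas hint p _ _, map_sum]
  apply Submodule.sum_mem
  intro i _
  have hco : (LogConn.coordE (E := E) ω (p + 1) K')
      (LogConn.comp nabla ω i (LogConn.coordE (E := E) ω p K x) ⊗ₜ[B]
        exteriorPower.ιMulti B (p + 1)
          (Fin.cons (ω i) (⇑ω ∘ (Set.powersetCard.ofFinEmbEquiv.symm K)))) =
      ((ω.exteriorPower (p + 1)).coord K' (exteriorPower.ιMulti B (p + 1)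
          (Fin.cons (ω i) (⇑ω ∘ (Set.powersetCard.ofFinEmbEquiv.symm K))))) •
        LogConn.comp nabla ω i (LogConn.coordE (E := E) ω p K x) := by
    unfold LogConn.coordE
    simp only [LinearMap.comp_apply, LinearEquiv.coe_coe]
    rw [TensorProduct.map_tmul, TensorProduct.rid_tmul, LinearMap.id_apply]
  rw [hco]
  by_cases hgood : i ∉ K.val ∧ K'.val = insert i K.val
  · apply smul_mem_piece lam t bΩ hbΩ ω ι hι nabla hc
    have := comp_mem_piece_insert_comm lam t bΩ hbΩ ω ι hι nabla hc hcomm i K.val hgood.1 _ (hxK K)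
    rw [← hgood.2] at this
    exact this
  · rw [coord_wedge_eq_zero ω i K K' hgood, zero_smul]
    exact Submodule.zero_mem _

end Groth.Agent.Lib.Helper6.LogC
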