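import Mathlib
import Groth.Prelude.Def_Conn
import Groth.Prelude.Def_LogDiff
import Groth.Prelude.Def_W4swconnpcurvhiggsLogLam
import Groth.Agent.Lib.Helper7.LogConn.Core
import Groth.Agent.Lib.Helper6.LogC.LCb

set_option autoImplicit false
set_option linter.unusedSectionVars false
set_option linter.unusedVariables false
set_option linter.unusedSimpArgs false
set_option linter.style.haveILetI false
set_option maxHeartbeats 400000

/-!
# Stability properties of the pieces `E_I` for commuting components
-/

open TensorProduct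

namespace Groth.Agent.Lib.Helper6.LogC

open Groth.Agent.Helper7.LogConnLib

universe v u

variable {A : Type v} {B L E : Type u} [CommRing A] [CommRing B] [Algebra A B]
  [AddCommGroup L] [Module B L] [Module A L] [IsScalarTower A B L]
  [AddCommGroup E] [Module B E] [Module A E] [IsScalarTower A B E]
  (lam : B) {n : ℕ} (t : Fin n → B) (bΩ : Module.Basis (Fin n) B (KaehlerDifferential A B))
  (hbΩ : ∀ i, bΩ i = KaehlerDifferential.D A B (t i))
  (ω : Module.Basis (Fin n) B L) (ι : KaehlerDifferential A B →ₗ[B] L)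
  (hι : ∀ i, ι (KaehlerDifferential.D A B (t i)) = t i • ω i)
  (nabla : E →ₗ[A] E ⊗[B] L)
  (hc : Conn.IsLamConn (ι.compDer (KaehlerDifferential.D A B)) lam nabla)
  (hcomm : ∀ (a b : Fin n) (m : E), LogConn.comp nabla ω a (LogConn.comp nabla ω b m) =
      LogConn.comp nabla ω b (LogConn.comp nabla ω a m))

include hcomm in
lemma comp_compProd_comm (i : Fin n) (J : Finset (Fin n)) (m : E) :
    LogConn.comp nabla ω i (LogConn.compProd nabla ω J m) =
      LogConn.compProd nabla ω J (LogConn.comp nabla ω i m) := by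
  classical
  induction J using Finset.induction_on with
  | empty => rw [compProd_empty]; rfl
  | insert j J hj ih =>
    rw [compProd_insert_comm ω nabla hcomm j J hj, LinearMap.comp_apply, LinearMap.comp_apply,
      hcomm i j, ih]

include hcomm in
lemma compProd_union_comm (J₁ J₂ : Finset (Fin n)) (hdisj : Disjoint J₁ J₂) (m : E) :
    LogConn.compProd nabla ω (J₁ ∪ J₂) m =
      LogConn.compProd nabla ω J₁ (LogConn.compProd nabla ω J₂ m) := by
  classical
  induction J₁ using Finset.induction_on with
  | empty => rw [Finset.empty_union, compProd_empty]; rfl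
  | insert j J₁ hj ih =>
    rw [Finset.disjoint_insert_left] at hdisj
    have hj' : j ∉ J₁ ∪ J₂ := by
      rw [Finset.mem_union, not_or]
      exact ⟨hj, hdisj.1⟩
    rw [Finset.insert_union, compProd_insert_comm ω nabla hcomm j _ hj',
      compProd_insert_comm ω nabla hcomm j J₁ hj, LinearMap.comp_apply, LinearMap.comp_apply,
      ih hdisj.2]

include hbΩ in
lemma pd_prod_mul (i : Fin n) (T : Finset (Fin n)) (hi : i ∈ T) :
    pd bΩ i (∏ k ∈ T, t k) * t i = ∏ k ∈ T, t k := by
  classical
  rw [← Finset.insert_erase hi, Finset.prod_insert (Finset.notMem_erase i T), pd_mul,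
    pd_prod_eq_zero t bΩ hbΩ i (T.erase i) (Finset.notMem_erase i T), pd_t t bΩ hbΩ, if_pos rfl]
  ring

include hbΩ hι hc hcomm in
/-- `E_I` is stable under `∇_i` for `i ∈ I` -/
lemma piece_comp_stable (I : Finset (Fin n)) (i : Fin n) (hi : i ∈ I) :
    ∀ x ∈ LogConn.piece nabla ω t I, LogConn.comp nabla ω i x ∈ LogConn.piece nabla ω t I := by
  classical
  refine piece_le_comap t ω nabla I (LogConn.comp nabla ω i) _ ?_
  intro J hJ y
  rw [comp_smul lam t bΩ hbΩ ω ι hι nabla hc]
  apply Submodule.add_mem
  · by_cases hiJ : i ∈ J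
    · rw [comp_compProd_comm ω nabla hcomm]
      exact gen_mem_piece t ω nabla I J hJ _
    · have h1 : LogConn.comp nabla ω i (LogConn.compProd nabla ω J y) =
          LogConn.compProd nabla ω (insert i J) y := by
        rw [compProd_insert_comm ω nabla hcomm i J hiJ]
        rfl
      have h2 : I \ J = insert i (I \ insert i J) := by
        ext a
        simp only [Finset.mem_sdiff, Finset.mem_insert]
        constructor
        · rintro ⟨ha1, ha2⟩
          by_cases hai : a = i
          · exact Or.inl hai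
          · exact Or.inr ⟨ha1, fun h => h.elim hai ha2⟩
        · rintro (rfl | ⟨ha1, ha2⟩)
          · exact ⟨hi, hiJ⟩
          · exact ⟨ha1, fun h => ha2 (Or.inr h)⟩
      have h3 : i ∉ I \ insert i J := by
        simp
      rw [h1, h2, Finset.prod_insert h3, mul_smul]
      apply smul_mem_piece lam t bΩ hbΩ ω ι hι nabla hc
      exact gen_mem_piece t ω nabla I (insert i J)
        (Finset.insert_subset hi hJ) y
  · by_cases hiJ : i ∈ J
    · rw [pd_prod_eq_zero t bΩ hbΩ i (I \ J) (fun hh => (Finset.mem_sdiff.mp hh).2 hiJ)]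
      simp
    · rw [pd_prod_mul t bΩ hbΩ i (I \ J) (Finset.mem_sdiff.mpr ⟨hi, hiJ⟩), mul_smul]
      apply smul_mem_piece lam t bΩ hbΩ ω ι hι nabla hc
      exact gen_mem_piece t ω nabla I J hJ y

include hbΩ hι hc hcomm in
/-- `t_{K ∖ K''} E_{K''} ⊆ E_K` -/
lemma cross_piece (K K'' : Finset (Fin n)) :
    ∀ x ∈ LogConn.piece nabla ω t K'',
      (∏ k ∈ K \ K'', t k) • x ∈ LogConn.piece nabla ω t K := by
  classical
  refine piece_le_comap t ω nabla K''
    ((LinearMap.lsmul B E (∏ k ∈ K \ K'', t k)).restrictScalars A) _ ?_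
  intro J hJ y
  change (∏ k ∈ K \ K'', t k) • ((∏ k ∈ K'' \ J, t k) • LogConn.compProd nabla ω J y) ∈ _
  -- split `J`
  have hJsplit : J = (J ∩ K) ∪ (J \ K) := by
    ext a
    simp only [Finset.mem_union, Finset.mem_inter, Finset.mem_sdiff]
    tauto
  have hdisj : Disjoint (J ∩ K) (J \ K) := by
    rw [Finset.disjoint_left]
    intro a ha hb
    exact (Finset.mem_sdiff.mp hb).2 (Finset.mem_inter.mp ha).2
  have h1 : LogConn.compProd nabla ω J y =
      LogConn.compProd nabla ω (J ∩ K) (LogConn.compProd nabla ω (J \ K) y) := by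
    conv_lhs => rw [hJsplit]
    exact compProd_union_comm ω nabla hcomm _ _ hdisj y
  have hprod : (∏ k ∈ K \ K'', t k) * (∏ k ∈ K'' \ J, t k) =
      (∏ k ∈ (K'' \ K) \ J, t k) * (∏ k ∈ K \ (J ∩ K), t k) := by
    have e : ∀ S : Finset (Fin n), ∏ k ∈ S, t k = ∏ k, (if k ∈ S then t k else 1) := by
      intro S
      rw [Finset.prod_ite_mem, Finset.univ_inter]
    rw [e (K \ K''), e (K'' \ J), e ((K'' \ K) \ J), e (K \ (J ∩ K)), ← Finset.prod_mul_distrib,
      ← Finset.prod_mul_distrib]
    apply Finset.prod_congr rfl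
    intro k _
    by_cases h1 : k ∈ K <;> by_cases h2 : k ∈ K'' <;> by_cases h3 : k ∈ J <;>
      simp [h1, h2, h3]
    exact absurd (hJ h3) h2
  rw [smul_smul, hprod, mul_smul, h1]
  apply smul_mem_piece lam t bΩ hbΩ ω ι hι nabla hc
  exact gen_mem_piece t ω nabla K (J ∩ K) Finset.inter_subset_right _

end Groth.Agent.Lib.Helper6.LogC
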