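import Mathlib
import Groth.Prelude.Def_Conn
import Groth.Prelude.Def_LogDiff
import Groth.Prelude.Def_W4swconnpcurvhiggsLogLam
import Groth.Agent.Lib.Helper7.LogConn.Core
import Groth.Agent.Lib.Helper6.LogC.LCc

set_option autoImplicit false
set_option linter.unusedSectionVars false
set_option linter.unusedVariables false
set_option linter.unusedSimpArgs false
set_option linter.style.haveILetI false
set_option maxHeartbeats 400000

/-!
# Change of admissible coordinates: the pieces
-/

open TensorProduct

namespace Groth.Agent.Lib.Helper6.LogC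

open Groth.Agent.Helper7.LogConnLib

universe v u

variable {A : Type v} {B L E : Type u} [CommRing A] [CommRing B] [Algebra A B]
  [AddCommGroup L] [Module B L] [Module A L] [IsScalarTower A B L]
  [AddCommGroup E] [Module B E] [Module A E] [IsScalarTower A B E]
  (lam : B) {n : ℕ} (t : Fin n → B) (bΩ : Module.Basis (Fin n) B (KaehlerDifferential A B))
  (hbΩ : ∀ i, bΩ i = KaehlerDifferential.D A B (t i))
  (ω : Module.Basis (Fin n) B L) (ι : KaehlerDifferential A B →ₗ[B] L)
  (hι : ∀ i, ι (KaehlerDifferential.D A B (t i)) = t i • ω i)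
  (nabla : E →ₗ[A] E ⊗[B] L)
  (hc : Conn.IsLamConn (ι.compDer (KaehlerDifferential.D A B)) lam nabla)
  (hcomm : ∀ (a b : Fin n) (m : E), LogConn.comp nabla ω a (LogConn.comp nabla ω b m) =
      LogConn.comp nabla ω b (LogConn.comp nabla ω a m))
  (t' : Fin n → B) (ω' : Module.Basis (Fin n) B L) (u : Fin n → Bˣ)
  (ht' : ∀ i, t' i = (u i : B) * t i)
  (a : Fin n → Fin n → B)
  (hH : ∀ i j, ω'.coord j (ω i) = (if i = j then 1 else 0) + a i j * t' j)

/-- components in another basis -/
lemma comp_change (j : Fin n) (e : E) :
    LogConn.comp nabla ω' j e = ∑ i, ω'.coord j (ω i) • LogConn.comp nabla ω i e := by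
  unfold LogConn.comp
  rw [Conn.along_apply]
  have h := nabla_expand ω nabla e
  unfold LogConn.comp at h
  conv_lhs => rw [h]
  rw [map_sum, map_sum]
  apply Finset.sum_congr rfl
  intro i _
  rw [TensorProduct.map_tmul, TensorProduct.rid_tmul, LinearMap.id_apply]

include hbΩ hι hc hcomm ht' hH in
lemma comp'_piece (K₀ : Finset (Fin n)) (j : Fin n) (hj : j ∉ K₀) :
    ∀ x ∈ LogConn.piece nabla ω t K₀,
      LogConn.comp nabla ω' j x ∈ LogConn.piece nabla ω t (insert j K₀) := by
  classical
  intro x hx
  rw [comp_change ω nabla ω' j x]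
  apply Submodule.sum_mem
  intro i _
  rw [hH i j, add_smul]
  apply Submodule.add_mem
  · by_cases hij : i = j
    · subst hij
      rw [if_pos rfl, one_smul]
      exact comp_mem_piece_insert_comm lam t bΩ hbΩ ω ι hι nabla hc hcomm i K₀ hj x hx
    · rw [if_neg hij, zero_smul]
      exact Submodule.zero_mem _
  · -- `t_j • ∇_i x ∈ E_{K₀ ∪ j}`
    have key : t j • LogConn.comp nabla ω i x ∈ LogConn.piece nabla ω t (insert j K₀) := by
      by_cases hiK : i ∈ K₀
      · have h1 := piece_comp_stable lam t bΩ hbΩ ω ι hι nabla hc hcomm K₀ i hiK x hx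
        have h2 := cross_piece lam t bΩ hbΩ ω ι hι nabla hc hcomm (insert j K₀) K₀ _ h1
        have h3 : insert j K₀ \ K₀ = {j} := by
          ext b
          simp only [Finset.mem_sdiff, Finset.mem_insert, Finset.mem_singleton]
          constructor
          · rintro ⟨hb1 | hb1, hb2⟩
            · exact hb1
            · exact absurd hb1 hb2
          · rintro rfl
            exact ⟨Or.inl rfl, hj⟩
        rwa [h3, Finset.prod_singleton] at h2
      · by_cases hij : i = j
        · subst hij
          apply smul_mem_piece lam t bΩ hbΩ ω ι hι nabla hc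
          exact comp_mem_piece_insert_comm lam t bΩ hbΩ ω ι hι nabla hc hcomm i K₀ hj x hx
        · have h1 := comp_mem_piece_insert_comm lam t bΩ hbΩ ω ι hι nabla hc hcomm i K₀ hiK x hx
          have h2 := cross_piece lam t bΩ hbΩ ω ι hι nabla hc hcomm (insert j K₀) (insert i K₀)
            _ h1
          have h3 : insert j K₀ \ insert i K₀ = {j} := by
            ext b
            simp only [Finset.mem_sdiff, Finset.mem_insert, Finset.mem_singleton]
            constructor
            · rintro ⟨hb1 | hb1, hb2⟩
              · exact hb1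
              · exact absurd (Or.inr hb1) hb2
            · rintro rfl
              refine ⟨Or.inl rfl, ?_⟩
              rintro (hb | hb)
              · exact hij hb.symm
              · exact hj hb
          rwa [h3, Finset.prod_singleton] at h2
    rw [ht' j, ← mul_assoc, mul_smul]
    exact smul_mem_piece lam t bΩ hbΩ ω ι hι nabla hc _ _ _ key

include hbΩ hι hc hcomm ht' hH in
lemma compProd'_mem_piece (J : Finset (Fin n)) :
    ∀ e : E, LogConn.compProd nabla ω' J e ∈ LogConn.piece nabla ω t J := by
  classical
  induction J using Finset.induction_on_min with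
  | empty =>
    intro e
    have := gen_mem_piece t ω nabla ∅ ∅ (Finset.Subset.refl _) e
    rw [Finset.sdiff_self, Finset.prod_empty, one_smul, compProd_empty] at this
    rw [compProd_empty]
    exact this
  | insert j J h ih =>
    intro e
    have hj : j ∉ J := fun hj => lt_irrefl j (h j hj)
    rw [compProd_insert ω' nabla j J h, LinearMap.comp_apply]
    exact comp'_piece lam t bΩ hbΩ ω ι hι nabla hc hcomm t' ω' u ht' a hH J j hj _ (ih e)

include hbΩ hι hc hcomm ht' hH in
/-- the pieces in the new coordinates are contained in the old ones -/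
lemma piece'_le_piece (K : Finset (Fin n)) :
    LogConn.piece nabla ω' t' K ≤ LogConn.piece nabla ω t K := by
  classical
  conv_lhs => unfold LogConn.piece
  refine iSup₂_le (fun J hJ => ?_)
  rintro _ ⟨y, rfl⟩
  have hJK : J ⊆ K := Finset.mem_powerset.mp hJ
  change (∏ i ∈ K \ J, t' i) • LogConn.compProd nabla ω' J y ∈ _
  have hprod : ∏ i ∈ K \ J, t' i = (∏ i ∈ K \ J, (u i : B)) * ∏ i ∈ K \ J, t i := by
    rw [← Finset.prod_mul_distrib]
    exact Finset.prod_congr rfl (fun i _ => ht' i)
  rw [hprod, mul_smul]
  apply smul_mem_piece lam t bΩ hbΩ ω ι hι nabla hc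
  exact prod_smul_mem_piece t ω nabla K J hJK _
    (compProd'_mem_piece lam t bΩ hbΩ ω ι hι nabla hc hcomm t' ω' u ht' a hH J y)

end Groth.Agent.Lib.Helper6.LogC
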