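import Mathlib
import Groth.Prelude.Def_Conn
import Groth.Prelude.Def_LogDiff
import Groth.Prelude.Def_W4swconnpcurvhiggsLogLam
import Groth.Agent.Lib.Helper7.LogConn.Core
import Groth.Agent.Lib.Helper6.LogC.LCd

set_option autoImplicit false
set_option linter.unusedSectionVars false
set_option linter.unusedVariables false
set_option linter.unusedSimpArgs false
set_option linter.style.haveILetI false
set_option maxHeartbeats 400000

/-!
# Change of admissible coordinates: the layers
-/

open TensorProduct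

namespace Groth.Agent.Lib.Helper6.LogC

open Groth.Agent.Helper7.LogConnLib

universe v u

section Det

variable {B : Type u} [CommRing B]

lemma prod_sorted {n p : ℕ} (K : Set.powersetCard (Fin n) p) (g : Fin n → B) :
    ∏ c : Fin p, g (Set.powersetCard.ofFinEmbEquiv.symm K c) = ∏ k ∈ K.val, g k := by
  conv_rhs => rw [← Finset.map_orderEmbOfFin_univ K.val K.prop, Finset.prod_map]
  rfl

/-- the minors of a matrix congruent to the identity modulo the columns `s` -/
lemma det_scaling {n p : ℕ} (K K'' : Set.powersetCard (Fin n) p) (a : Fin n → Fin n → B)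
    (s : Fin n → B) :
    ∃ z : B, Matrix.det (Matrix.of fun (r c : Fin p) =>
      (if Set.powersetCard.ofFinEmbEquiv.symm K'' r = Set.powersetCard.ofFinEmbEquiv.symm K c
        then (1 : B) else 0) +
      a (Set.powersetCard.ofFinEmbEquiv.symm K'' r) (Set.powersetCard.ofFinEmbEquiv.symm K c) *
        s (Set.powersetCard.ofFinEmbEquiv.symm K c)) = z * ∏ k ∈ K.val \ K''.val, s k := by
  classical
  set sK := Set.powersetCard.ofFinEmbEquiv.symm K with hsK
  set sK'' := Set.powersetCard.ofFinEmbEquiv.symm K'' with hsK''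
  let v : Fin p → B := fun c => if sK c ∈ K''.val then 1 else s (sK c)
  let M' : Matrix (Fin p) (Fin p) B := Matrix.of fun r c =>
    if sK c ∈ K''.val then ((if sK'' r = sK c then (1 : B) else 0) + a (sK'' r) (sK c) * s (sK c))
    else a (sK'' r) (sK c)
  have hM : (Matrix.of fun (r c : Fin p) =>
      (if sK'' r = sK c then (1 : B) else 0) + a (sK'' r) (sK c) * s (sK c)) =
      Matrix.of fun r c => v c * M' r c := by
    ext r c
    simp only [Matrix.of_apply, v, M']
    by_cases hc : sK c ∈ K''.val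
    · rw [if_pos hc, if_pos hc, one_mul]
    · rw [if_neg hc, if_neg hc]
      have hne : sK'' r ≠ sK c := by
        intro h
        apply hc
        rw [← h]
        exact (Set.powersetCard.mem_range_ofFinEmbEquiv_symm_iff_mem K'' _).mp ⟨r, rfl⟩
      rw [if_neg hne, zero_add, mul_comm]
  rw [hM, Matrix.det_mul_row]
  refine ⟨M'.det, ?_⟩
  rw [mul_comm]
  congr 1
  have h1 : ∏ c, v c = ∏ k ∈ K.val, (if k ∈ K''.val then 1 else s k) :=
    prod_sorted K (fun k => if k ∈ K''.val then 1 else s k)
  rw [h1, Finset.sdiff_eq_filter, Finset.prod_filter]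
  apply Finset.prod_congr rfl
  intro k _
  by_cases hk : k ∈ K''.val
  · rw [if_pos hk, if_neg (not_not.mpr hk)]
  · rw [if_neg hk, if_pos hk]

end Det

variable {A : Type v} {B L E : Type u} [CommRing A] [CommRing B] [Algebra A B]
  [AddCommGroup L] [Module B L] [Module A L] [IsScalarTower A B L]
  [AddCommGroup E] [Module B E] [Module A E] [IsScalarTower A B E]
  (lam : B) {n : ℕ} (t : Fin n → B) (bΩ : Module.Basis (Fin n) B (KaehlerDifferential A B))
  (hbΩ : ∀ i, bΩ i = KaehlerDifferential.D A B (t i))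
  (ω : Module.Basis (Fin n) B L) (ι : KaehlerDifferential A B →ₗ[B] L)
  (hι : ∀ i, ι (KaehlerDifferential.D A B (t i)) = t i • ω i)
  (nabla : E →ₗ[A] E ⊗[B] L)
  (hc : Conn.IsLamConn (ι.compDer (KaehlerDifferential.D A B)) lam nabla)
  (hcomm : ∀ (a b : Fin n) (m : E), LogConn.comp nabla ω a (LogConn.comp nabla ω b m) =
      LogConn.comp nabla ω b (LogConn.comp nabla ω a m))
  (t' : Fin n → B) (ω' : Module.Basis (Fin n) B L) (u : Fin n → Bˣ)
  (ht' : ∀ i, t' i = (u i : B) * t i)
  (a : Fin n → Fin n → B)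
  (hH : ∀ i j, ω'.coord j (ω i) = (if i = j then 1 else 0) + a i j * t' j)

include hbΩ hι hc hcomm ht' hH in
theorem layer_le_layer'
    (hpiece : ∀ K : Finset (Fin n), LogConn.piece nabla ω t K ≤ LogConn.piece nabla ω' t' K)
    (p : ℕ) : LogConn.layer nabla ω t p ≤ LogConn.layer nabla ω' t' p := by
  classical
  intro x hx
  unfold LogConn.layer at hx ⊢
  rw [Submodule.mem_iInf] at hx ⊢
  intro K
  rw [Submodule.mem_comap]
  have hxe : x = ∑ K'', (LogConn.coordE (E := E) ω p K'' x) ⊗ₜ[B] (ω.exteriorPower p K'') :=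
    tensor_expand (ω.exteriorPower p) x
  have hxK : ∀ K'' : Set.powersetCard (Fin n) p,
      LogConn.coordE (E := E) ω p K'' x ∈ LogConn.piece nabla ω t (K'' : Finset (Fin n)) :=
    fun K'' => hx K''
  rw [hxe, map_sum]
  apply Submodule.sum_mem
  intro K'' _
  have hco : ((LogConn.coordE (E := E) ω' p K).restrictScalars A)
      (LogConn.coordE (E := E) ω p K'' x ⊗ₜ[B] (ω.exteriorPower p K'')) =
      ((ω'.exteriorPower p).coord K (ω.exteriorPower p K'')) •
        LogConn.coordE (E := E) ω p K'' x := by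
    rw [LinearMap.restrictScalars_apply]
    unfold LogConn.coordE
    simp only [LinearMap.comp_apply, LinearEquiv.coe_coe]
    rw [TensorProduct.map_tmul, TensorProduct.rid_tmul, LinearMap.id_apply]
  rw [hco, exteriorPower.basis_apply, exteriorPower.ιMulti_family, exteriorPower.basis_coord,
    exteriorPower.ιMultiDual_apply_ιMulti]
  have hmat : (Matrix.of fun (r c : Fin p) =>
      ω'.coord (Set.powersetCard.ofFinEmbEquiv.symm K c)
        ((⇑ω ∘ ⇑(Set.powersetCard.ofFinEmbEquiv.symm K'')) r)) =
      Matrix.of fun (r c : Fin p) =>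
      (if Set.powersetCard.ofFinEmbEquiv.symm K'' r = Set.powersetCard.ofFinEmbEquiv.symm K c
        then (1 : B) else 0) +
      a (Set.powersetCard.ofFinEmbEquiv.symm K'' r) (Set.powersetCard.ofFinEmbEquiv.symm K c) *
        t' (Set.powersetCard.ofFinEmbEquiv.symm K c) := by
    ext r c
    simp only [Matrix.of_apply, Function.comp_apply]
    exact hH _ _
  rw [hmat]
  obtain ⟨z, hz⟩ := det_scaling K K'' a t'
  rw [hz]
  have hprod : ∏ k ∈ K.val \ K''.val, t' k =
      (∏ k ∈ K.val \ K''.val, (u k : B)) * ∏ k ∈ K.val \ K''.val, t k := by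
    rw [← Finset.prod_mul_distrib]
    exact Finset.prod_congr rfl (fun i _ => ht' i)
  rw [hprod, ← mul_assoc, mul_smul]
  apply hpiece
  apply smul_mem_piece lam t bΩ hbΩ ω ι hι nabla hc
  exact cross_piece lam t bΩ hbΩ ω ι hι nabla hc hcomm K.val K''.val _ (hxK K'')

end Groth.Agent.Lib.Helper6.LogC
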