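import Mathlib
import Groth.Prelude.Def_Conn
import Groth.Prelude.Def_LogDiff
import Groth.Prelude.Def_W4swconnpcurvhiggsLogLam
import Groth.Agent.Lib.Helper7.LogConn.Core
import Groth.Agent.Lib.Helper6.LogC.LCe

set_option autoImplicit false
set_option linter.unusedSectionVars false
set_option linter.unusedVariables false
set_option linter.unusedSimpArgs false
set_option linter.style.haveILetI false
set_option maxHeartbeats 400000

/-!
# The layers do not depend on the admissible coordinates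
-/

open TensorProduct

namespace Groth.Agent.Lib.Helper6.LogC

open Groth.Agent.Helper7.LogConnLib

universe v u

variable {A : Type v} {B L E : Type u} [CommRing A] [CommRing B] [Algebra A B]
  [AddCommGroup L] [Module B L] [Module A L] [IsScalarTower A B L]
  [AddCommGroup E] [Module B E] [Module A E] [IsScalarTower A B E]
  (lam : B) {n : ℕ}
  (ω : Module.Basis (Fin n) B L)
  (nabla : E →ₗ[A] E ⊗[B] L)
  (d : ∀ p : ℕ, ↥(⋀[B]^p L) →ₗ[A] ↥(⋀[B]^(p + 1) L))
  (nablas : ∀ p : ℕ, E ⊗[B] ↥(⋀[B]^p L) →ₗ[A] E ⊗[B] ↥(⋀[B]^(p + 1) L))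
  (hint : Conn.IsIntegrable nabla (fun p => lam • d p) nablas)
  (hd1 : ∀ j : Fin n, d 1 (exteriorPower.ιMulti B 1 (fun _ : Fin 1 => ω j)) = 0)

include hint hd1 in
lemma nablas_one_tmul (j : Fin n) (e : E) :
    nablas 1 (e ⊗ₜ[B] exteriorPower.ιMulti B 1 (fun _ : Fin 1 => ω j)) =
      ∑ i, LogConn.comp nabla ω i e ⊗ₜ[B]
        exteriorPower.ιMulti B 2 (Fin.cons (ω i) (fun _ : Fin 1 => ω j)) := by
  have h := hint.1 1 e (exteriorPower.ιMulti B 1 (fun _ : Fin 1 => ω j))
  rw [h]
  have h0 : (fun p => lam • d p) 1 (exteriorPower.ιMulti B 1 (fun _ : Fin 1 => ω j)) = 0 := by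
    change (lam • d 1) (exteriorPower.ιMulti B 1 (fun _ : Fin 1 => ω j)) = 0
    rw [LinearMap.smul_apply, hd1 j, smul_zero]
  rw [h0, TensorProduct.tmul_zero, add_zero]
  conv_lhs => rw [nabla_expand ω nabla e]
  rw [map_sum, map_sum, LinearMap.sum_apply]
  apply Finset.sum_congr rfl
  intro i _
  rw [Conn.toOne_tmul, Conn.twedge_tmul, wedge_oneEquiv_symm_ιMulti]

include hint hd1 in
/-- the components of a flat connection commute (any basis of closed forms) -/
lemma comp_comm_of_d1 (a b : Fin n) (m : E) :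
    LogConn.comp nabla ω a (LogConn.comp nabla ω b m) =
      LogConn.comp nabla ω b (LogConn.comp nabla ω a m) := by
  have h := hint.2 m
  have h1 : Conn.toOne (nabla m) = ∑ j, LogConn.comp nabla ω j m ⊗ₜ[B]
      exteriorPower.ιMulti B 1 (fun _ : Fin 1 => ω j) := by
    conv_lhs => rw [nabla_expand ω nabla m]
    rw [map_sum]
    apply Finset.sum_congr rfl
    intro j _
    rw [Conn.toOne_tmul, exteriorPower.oneEquiv_symm_apply]
  rw [h1, map_sum] at h
  rw [Finset.sum_congr rfl (fun j _ => nablas_one_tmul lam ω nabla d nablas hint hd1 j _)] at h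
  let φ : Module.Dual B (⋀[B]^2 L) :=
    exteriorPower.pairingDual B L 2 (exteriorPower.ιMulti B 2 ![ω.coord a, ω.coord b])
  let Φ : E ⊗[B] ↥(⋀[B]^2 L) →ₗ[B] E :=
    (TensorProduct.rid B E).toLinearMap ∘ₗ TensorProduct.map LinearMap.id φ
  have h3 := congrArg Φ h
  rw [map_zero, map_sum] at h3
  have h4 : ∀ i j, Φ (LogConn.comp nabla ω i (LogConn.comp nabla ω j m) ⊗ₜ[B]
      exteriorPower.ιMulti B 2 (Fin.cons (ω i) (fun _ : Fin 1 => ω j))) =
      ((ω.coord a (ω i)) * (ω.coord b (ω j))) •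
          LogConn.comp nabla ω i (LogConn.comp nabla ω j m) -
        ((ω.coord b (ω i)) * (ω.coord a (ω j))) •
          LogConn.comp nabla ω i (LogConn.comp nabla ω j m) := by
    intro i j
    simp only [Φ, LinearMap.comp_apply, LinearEquiv.coe_coe]
    rw [TensorProduct.map_tmul, TensorProduct.rid_tmul, LinearMap.id_apply]
    have : φ (exteriorPower.ιMulti B 2 (Fin.cons (ω i) (fun _ : Fin 1 => ω j))) =
        (ω.coord a (ω i)) * (ω.coord b (ω j)) - (ω.coord b (ω i)) * (ω.coord a (ω j)) := by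
      change exteriorPower.pairingDual B L 2 _ _ = _
      rw [exteriorPower.pairingDual_ιMulti_ιMulti, Matrix.det_fin_two]
      have e0 : (Fin.cons (ω i) (fun _ : Fin 1 => ω j) : Fin 2 → L) 0 = ω i := rfl
      have e1 : (Fin.cons (ω i) (fun _ : Fin 1 => ω j) : Fin 2 → L) 1 = ω j := rfl
      simp only [Matrix.of_apply, e0, e1, Matrix.cons_val_zero, Matrix.cons_val_one]
    rw [this, sub_smul]
  simp_rw [map_sum, h4, Finset.sum_sub_distrib] at h3
  rw [sum_sum_delta ω (fun i j => LogConn.comp nabla ω i (LogConn.comp nabla ω j m)) a b,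
    sum_sum_delta ω (fun i j => LogConn.comp nabla ω i (LogConn.comp nabla ω j m)) b a] at h3
  exact sub_eq_zero.mp h3

end Groth.Agent.Lib.Helper6.LogC

namespace Groth.Agent.Lib.Helper6.LogC

open Groth.Agent.Helper7.LogConnLib

universe v u

variable {A : Type v} {B L E : Type u} [CommRing A] [CommRing B] [Algebra A B]
  [AddCommGroup L] [Module B L] [Module A L] [IsScalarTower A B L]
  [AddCommGroup E] [Module B E] [Module A E] [IsScalarTower A B E]

lemma D_inv (u : Bˣ) : KaehlerDifferential.D A B ((u⁻¹ : Bˣ) : B) =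
    -(((u⁻¹ : Bˣ) : B) * ((u⁻¹ : Bˣ) : B)) • KaehlerDifferential.D A B (u : B) := by
  have h : KaehlerDifferential.D A B ((u : B) * ((u⁻¹ : Bˣ) : B)) = 0 := by
    rw [Units.mul_inv, Derivation.map_one_eq_zero]
  rw [Derivation.leibniz] at h
  have h2 : KaehlerDifferential.D A B ((u⁻¹ : Bˣ) : B) =
      ((u⁻¹ : Bˣ) : B) • ((u : B) • KaehlerDifferential.D A B ((u⁻¹ : Bˣ) : B)) := by
    rw [smul_smul, Units.inv_mul, one_smul]
  rw [h2, eq_neg_of_add_eq_zero_left h, smul_neg, smul_smul, neg_smul]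

theorem main2 (lam : B) {n : ℕ} (t : Fin n → B)
    (bΩ : Module.Basis (Fin n) B (KaehlerDifferential A B))
    (hbΩ : ∀ i, bΩ i = KaehlerDifferential.D A B (t i))
    (ω : Module.Basis (Fin n) B L) (ι : KaehlerDifferential A B →ₗ[B] L)
    (hι : ∀ i, ι (KaehlerDifferential.D A B (t i)) = t i • ω i)
    (nabla : E →ₗ[A] E ⊗[B] L)
    (hc : Conn.IsLamConn (ι.compDer (KaehlerDifferential.D A B)) lam nabla)
    (d : ∀ p : ℕ, ↥(⋀[B]^p L) →ₗ[A] ↥(⋀[B]^(p + 1) L))
    (hd : LogDiff.IsLogRule (KaehlerDifferential.D A B) ι (⇑ω) d)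
    (nablas : ∀ p : ℕ, E ⊗[B] ↥(⋀[B]^p L) →ₗ[A] E ⊗[B] ↥(⋀[B]^(p + 1) L))
    (hint : Conn.IsIntegrable nabla (fun p => lam • d p) nablas)
    (u : Fin n → Bˣ) (bΩ' : Module.Basis (Fin n) B (KaehlerDifferential A B))
    (hbΩ' : ∀ i, bΩ' i = KaehlerDifferential.D A B ((u i : B) * t i))
    (ω' : Module.Basis (Fin n) B L)
    (hω' : ∀ i, ω' i = ω i + ((u i)⁻¹ : Bˣ).val • ι (KaehlerDifferential.D A B (u i : B)))
    (p : ℕ) :
    LogConn.layer nabla ω t p = LogConn.layer nabla ω' (fun i => (u i : B) * t i) p := by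
  classical
  set t' : Fin n → B := fun i => (u i : B) * t i with ht'def
  have ht' : ∀ i, t' i = (u i : B) * t i := fun i => rfl
  have ht : ∀ i, t i = ((u i)⁻¹ : Bˣ).val * t' i := by
    intro i
    rw [ht', ← mul_assoc, Units.inv_mul, one_mul]
  -- the primed system satisfies the same hypotheses
  have hι' : ∀ i, ι (KaehlerDifferential.D A B (t' i)) = t' i • ω' i := by
    intro i
    rw [ht', Derivation.leibniz, map_add, map_smul, map_smul, hι, hω', smul_add, smul_smul,
      smul_smul]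
    have e : (u i : B) * t i * ((u i)⁻¹ : Bˣ).val = t i := by
      rw [mul_comm (u i : B), mul_assoc, Units.mul_inv, mul_one]
    rw [e]
  have hcomm : ∀ (a b : Fin n) (m : E), LogConn.comp nabla ω a (LogConn.comp nabla ω b m) =
      LogConn.comp nabla ω b (LogConn.comp nabla ω a m) :=
    comp_comm lam ω ι nabla d hd nablas hint
  have hd1' : ∀ j : Fin n, d 1 (exteriorPower.ιMulti B 1 (fun _ : Fin 1 => ω' j)) = 0 := by
    intro j
    have e1 : exteriorPower.ιMulti B 1 (fun _ : Fin 1 => ω' j) =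
        exteriorPower.ιMulti B 1 (⇑ω ∘ (fun _ : Fin 1 => j)) +
          ((u j)⁻¹ : Bˣ).val • exteriorPower.ιMulti B 1
            (fun _ : Fin 1 => ι (KaehlerDifferential.D A B (u j : B))) := by
      rw [← exteriorPower.oneEquiv_symm_apply, hω', map_add, map_smul,
        exteriorPower.oneEquiv_symm_apply, exteriorPower.oneEquiv_symm_apply]
      rfl
    rw [e1, map_add, d_ιMulti_basis ω ι d hd 1 _, zero_add]
    rw [hd 1 _ _ (fun k => Or.inl ⟨(u j : B), rfl⟩)]
    rw [D_inv, map_smul]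
    have e2 : (Fin.cons (-(((u j)⁻¹ : Bˣ).val * ((u j)⁻¹ : Bˣ).val) •
        ι (KaehlerDifferential.D A B (u j : B)))
        (fun _ : Fin 1 => ι (KaehlerDifferential.D A B (u j : B))) : Fin 2 → L) =
        Function.update (Fin.cons (ι (KaehlerDifferential.D A B (u j : B)))
          (fun _ : Fin 1 => ι (KaehlerDifferential.D A B (u j : B))) : Fin 2 → L) 0
          (-(((u j)⁻¹ : Bˣ).val * ((u j)⁻¹ : Bˣ).val) •
            ι (KaehlerDifferential.D A B (u j : B))) := by
      funext k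
      refine Fin.cases ?_ (fun k' => ?_) k
      · simp
      · simp
    rw [e2, AlternatingMap.map_update_smul]
    have e3 : exteriorPower.ιMulti B 2 (Function.update (Fin.cons (ι (KaehlerDifferential.D A B (u j : B)))
          (fun _ : Fin 1 => ι (KaehlerDifferential.D A B (u j : B))) : Fin 2 → L) 0
          (ι (KaehlerDifferential.D A B (u j : B)))) = 0 := by
      apply AlternatingMap.map_eq_zero_of_eq _ _ (i := (0 : Fin 2)) (j := (1 : Fin 2))
      · simp
      · exact Fin.zero_ne_one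
    rw [e3, smul_zero]
  have hcomm' : ∀ (a b : Fin n) (m : E), LogConn.comp nabla ω' a (LogConn.comp nabla ω' b m) =
      LogConn.comp nabla ω' b (LogConn.comp nabla ω' a m) :=
    comp_comm_of_d1 lam ω' nabla d nablas hint hd1'
  -- the change of basis matrices
  have hH : ∀ i j, ω'.coord j (ω i) = (if i = j then 1 else 0) +
      (-(((u i)⁻¹ : Bˣ).val * pd bΩ' j (u i : B))) * t' j := by
    intro i j
    have e : ω i = ω' i - ((u i)⁻¹ : Bˣ).val • ι (KaehlerDifferential.D A B (u i : B)) := by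
      rw [hω', add_sub_cancel_right]
    rw [e, map_sub, map_smul, coord_iota_D t' bΩ' hbΩ' ω' ι hι', Module.Basis.coord_apply,
      Module.Basis.repr_self, Finsupp.single_apply, smul_eq_mul]
    ring
  have hH' : ∀ i j, ω.coord j (ω' i) = (if i = j then 1 else 0) +
      (((u i)⁻¹ : Bˣ).val * pd bΩ j (u i : B)) * t j := by
    intro i j
    rw [hω', map_add, map_smul, coord_iota_D t bΩ hbΩ ω ι hι, Module.Basis.coord_apply,
      Module.Basis.repr_self, Finsupp.single_apply, smul_eq_mul]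
    ring
  have ht2 : ∀ i, t i = (((u i)⁻¹ : Bˣ) : B) * t' i := ht
  -- the pieces agree
  have hp1 : ∀ K : Finset (Fin n), LogConn.piece nabla ω' t' K ≤ LogConn.piece nabla ω t K :=
    fun K => piece'_le_piece lam t bΩ hbΩ ω ι hι nabla hc hcomm t' ω' u ht' _ hH K
  have hp2 : ∀ K : Finset (Fin n), LogConn.piece nabla ω t K ≤ LogConn.piece nabla ω' t' K :=
    fun K => piece'_le_piece lam t' bΩ' hbΩ' ω' ι hι' nabla hc hcomm' t ω (fun i => (u i)⁻¹) ht2
      _ hH' K
  apply le_antisymm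
  · exact layer_le_layer' lam t bΩ hbΩ ω ι hι nabla hc hcomm t' ω' u ht' _ hH hp2 p
  · exact layer_le_layer' lam t' bΩ' hbΩ' ω' ι hι' nabla hc hcomm' t ω (fun i => (u i)⁻¹) ht2
      _ hH' hp1 p

end Groth.Agent.Lib.Helper6.LogC
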