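import Mathlib
import Groth.Prelude.Def_Conn
import Groth.Prelude.Def_LogDiff
import Groth.Prelude.Def_W4swconnpcurvhiggsLogLam
import Groth.Agent.Lib.Helper7.LogConn.Core
import Groth.Agent.Lib.Helper6.LogC.LCe

set_option autoImplicit false
set_option linter.unusedSectionVars false
set_option linter.unusedVariables false
set_option linter.unusedSimpArgs false
set_option linter.style.haveILetI false
set_option maxHeartbeats 400000

/-!
# The layers are spanned by the standard generators
-/

open TensorProduct

namespace Groth.Agent.Lib.Helper6.LogC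

open Groth.Agent.Helper7.LogConnLib

universe v u

section Det

variable {B : Type u} [CommRing B]

/-- minors whose columns outside `I` are divisible by `s` -/
lemma det_scaling' {n p : ℕ} (K : Set.powersetCard (Fin n) p) (I : Finset (Fin n))
    (M M'' : Matrix (Fin p) (Fin p) B) (s : Fin n → B)
    (h : ∀ r c, Set.powersetCard.ofFinEmbEquiv.symm K c ∉ I →
      M r c = M'' r c * s (Set.powersetCard.ofFinEmbEquiv.symm K c)) :
    ∃ z : B, M.det = z * ∏ k ∈ K.val \ I, s k := by
  classical
  set sK := Set.powersetCard.ofFinEmbEquiv.symm K with hsK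
  let v : Fin p → B := fun c => if sK c ∈ I then 1 else s (sK c)
  let M' : Matrix (Fin p) (Fin p) B := Matrix.of fun r c =>
    if sK c ∈ I then M r c else M'' r c
  have hM : M = Matrix.of fun r c => v c * M' r c := by
    ext r c
    simp only [Matrix.of_apply, v, M']
    by_cases hc : sK c ∈ I
    · rw [if_pos hc, if_pos hc, one_mul]
    · rw [if_neg hc, if_neg hc, h r c hc, mul_comm]
  rw [hM, Matrix.det_mul_row]
  refine ⟨M'.det, ?_⟩
  rw [mul_comm]
  congr 1
  have h1 : ∏ c, v c = ∏ k ∈ K.val, (if k ∈ I then 1 else s k) :=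
    prod_sorted K (fun k => if k ∈ I then 1 else s k)
  rw [h1, Finset.sdiff_eq_filter, Finset.prod_filter]
  apply Finset.prod_congr rfl
  intro k _
  by_cases hk : k ∈ I
  · rw [if_pos hk, if_neg (not_not.mpr hk)]
  · rw [if_neg hk, if_pos hk]

end Det

section Perm

variable {B L : Type u} [CommRing B] [AddCommGroup L] [Module B L]

/-- a wedge of basis vectors over an injective enumeration of `K` is `± ω_K` -/
lemma ιMulti_perm_sorted {n p : ℕ} (ω : Fin n → L) (K : Set.powersetCard (Fin n) p)
    (g : Fin p → Fin n) (hg : Function.Injective g) (hgK : ∀ k, g k ∈ K.val) :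
    ∃ σ : Equiv.Perm (Fin p), g = (Set.powersetCard.ofFinEmbEquiv.symm K) ∘ σ ∧
      exteriorPower.ιMulti B p (ω ∘ g) =
        Equiv.Perm.sign σ • exteriorPower.ιMulti_family B p ω K := by
  classical
  let e : Fin p ≃o K.val := K.val.orderIsoOfFin K.prop
  let g' : Fin p → K.val := fun k => ⟨g k, hgK k⟩
  have hg' : Function.Injective g' := by
    intro k k' h
    apply hg
    exact congrArg Subtype.val h
  have hbij : Function.Bijective g' := by
    rw [Fintype.bijective_iff_injective_and_card]
    refine ⟨hg', ?_⟩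
    rw [Fintype.card_fin, Fintype.card_coe, K.prop]
  let σ : Equiv.Perm (Fin p) := (Equiv.ofBijective g' hbij).trans e.symm.toEquiv
  have hσ : g = (Set.powersetCard.ofFinEmbEquiv.symm K) ∘ σ := by
    funext k
    simp only [Function.comp_apply, σ, Equiv.trans_apply, Equiv.ofBijective_apply]
    rw [Set.powersetCard.ofFinEmbEquiv_symm_apply]
    have : (K.val.orderEmbOfFin K.prop) (e.symm (g' k)) = ((e (e.symm (g' k)) : K.val) : Fin n) :=
      rfl
    change g k = (K.val.orderEmbOfFin K.prop) (e.symm (g' k))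
    rw [this, OrderIso.apply_symm_apply]
  refine ⟨σ, hσ, ?_⟩
  rw [hσ, ← Function.comp_assoc, AlternatingMap.map_perm]
  rfl

end Perm

variable {A : Type v} {B L E : Type u} [CommRing A] [CommRing B] [Algebra A B]
  [AddCommGroup L] [Module B L] [Module A L] [IsScalarTower A B L]
  [AddCommGroup E] [Module B E] [Module A E] [IsScalarTower A B E]
  (lam : B) {n : ℕ} (t : Fin n → B) (bΩ : Module.Basis (Fin n) B (KaehlerDifferential A B))
  (hbΩ : ∀ i, bΩ i = KaehlerDifferential.D A B (t i))
  (ω : Module.Basis (Fin n) B L) (ι : KaehlerDifferential A B →ₗ[B] L)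
  (hι : ∀ i, ι (KaehlerDifferential.D A B (t i)) = t i • ω i)
  (nabla : E →ₗ[A] E ⊗[B] L)
  (hc : Conn.IsLamConn (ι.compDer (KaehlerDifferential.D A B)) lam nabla)

include hbΩ hι in
lemma coord_iota (η : KaehlerDifferential A B) (i : Fin n) :
    ω.coord i (ι η) = bΩ.coord i η * t i := by
  have h1 : η = ∑ j, bΩ.coord j η • bΩ j := by
    conv_lhs => rw [← bΩ.sum_repr η]
    rfl
  conv_lhs => rw [h1]
  rw [map_sum, map_sum]
  simp_rw [map_smul, hbΩ, hι, map_smul, Module.Basis.coord_apply, Module.Basis.repr_self,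
    Finsupp.single_apply, smul_eq_mul]
  rw [Finset.sum_eq_single i]
  · rw [if_pos rfl, mul_one]
  · intro j _ hj
    rw [if_neg hj, mul_zero, mul_zero]
  · intro h
    exact absurd (Finset.mem_univ i) h

include hbΩ hι hc in
/-- the layers are stable under `B` -/
lemma layer_smul_mem (p : ℕ) (b : B) (x : E ⊗[B] ↥(⋀[B]^p L))
    (hx : x ∈ LogConn.layer nabla ω t p) : b • x ∈ LogConn.layer nabla ω t p := by
  unfold LogConn.layer at hx ⊢
  rw [Submodule.mem_iInf] at hx ⊢
  intro K
  have := hx K
  rw [Submodule.mem_comap] at this ⊢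
  rw [LinearMap.restrictScalars_apply] at this ⊢
  rw [map_smul]
  exact smul_mem_piece lam t bΩ hbΩ ω ι hι nabla hc _ b _ this

include hbΩ hι hc in
/-- the generators lie in the layer -/
lemma gen_mem_layer (p : ℕ) (x : E ⊗[B] ↥(⋀[B]^p L)) (hx : x ∈ LogConn.gens nabla ω ι p) :
    x ∈ LogConn.layer nabla ω t p := by
  classical
  obtain ⟨I, hIp, e, v, hv1, hv2, rfl⟩ := hx
  unfold LogConn.layer
  rw [Submodule.mem_iInf]
  intro K
  rw [Submodule.mem_comap, LinearMap.restrictScalars_apply]
  have hco : (LogConn.coordE (E := E) ω p K)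
      (LogConn.compProd nabla ω I e ⊗ₜ[B] exteriorPower.ιMulti B p v) =
      ((ω.exteriorPower p).coord K (exteriorPower.ιMulti B p v)) •
        LogConn.compProd nabla ω I e := by
    unfold LogConn.coordE
    simp only [LinearMap.comp_apply, LinearEquiv.coe_coe]
    rw [TensorProduct.map_tmul, TensorProduct.rid_tmul, LinearMap.id_apply]
  rw [hco, exteriorPower.basis_coord, exteriorPower.ιMultiDual_apply_ιMulti]
  set sK := Set.powersetCard.ofFinEmbEquiv.symm K with hsK
  by_cases hIK : I ⊆ K.val
  · -- scaling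
    have hη : ∀ r : Fin p, I.card ≤ r.val → ∃ η, ι η = v r := fun r hr => hv2 r hr
    let η : Fin p → KaehlerDifferential A B := fun r =>
      if hr : I.card ≤ r.val then (hη r hr).choose else 0
    have hηv : ∀ r : Fin p, I.card ≤ r.val → ι (η r) = v r := by
      intro r hr
      simp only [η, dif_pos hr]
      exact (hη r hr).choose_spec
    let M'' : Matrix (Fin p) (Fin p) B := Matrix.of fun r c =>
      if I.card ≤ r.val then bΩ.coord (sK c) (η r) else 0
    obtain ⟨z, hz⟩ := det_scaling' K I
      (Matrix.of fun (r c : Fin p) => ω.coord (sK c) (v r)) M'' t (by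
        intro r c hc
        simp only [Matrix.of_apply, M'']
        by_cases hr : I.card ≤ r.val
        · rw [if_pos hr, ← hηv r hr, coord_iota t bΩ hbΩ ω ι hι]
        · rw [if_neg hr, zero_mul, hv1 r (not_le.mp hr), Module.Basis.coord_apply,
            Module.Basis.repr_self]
          apply Finsupp.single_eq_of_ne
          intro h
          apply hc
          rw [h]
          exact Finset.orderEmbOfFin_mem I rfl _)
    rw [hz, mul_smul]
    apply smul_mem_piece lam t bΩ hbΩ ω ι hι nabla hc
    exact gen_mem_piece t ω nabla K.val I hIK e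
  · -- a zero row
    obtain ⟨i, hiI, hiK⟩ := Finset.not_subset.mp hIK
    have hiI' : i ∈ Set.range (I.orderEmbOfFin rfl) := by
      rw [Finset.range_orderEmbOfFin]
      exact hiI
    obtain ⟨r₀, hr₀⟩ := hiI'
    have hr₀p : r₀.val < p := lt_of_lt_of_le r₀.isLt hIp
    have hdet : (Matrix.of fun (r c : Fin p) => ω.coord (sK c) (v r)).det = 0 := by
      apply Matrix.det_eq_zero_of_row_eq_zero ⟨r₀.val, hr₀p⟩
      intro c
      simp only [Matrix.of_apply]
      rw [hv1 ⟨r₀.val, hr₀p⟩ r₀.isLt, Module.Basis.coord_apply, Module.Basis.repr_self]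
      apply Finsupp.single_eq_of_ne
      intro h
      apply hiK
      have h2 : sK c ∈ K.val :=
        (Set.powersetCard.mem_range_ofFinEmbEquiv_symm_iff_mem K _).mp ⟨c, rfl⟩
      rw [← hr₀]
      rw [h] at h2
      exact h2
    rw [hdet, zero_smul]
    exact Submodule.zero_mem _

include hι in
/-- `t_{K∖J} ∇_J e ⊗ ω_K` is, up to sign, a generator -/
lemma tmul_basis_mem_span_gen (p : ℕ) (K : Set.powersetCard (Fin n) p) (J : Finset (Fin n))
    (hJ : J ⊆ K.val) (e₀ : E) :
    ((∏ i ∈ K.val \ J, t i) • LogConn.compProd nabla ω J e₀) ⊗ₜ[B] (ω.exteriorPower p K) ∈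
      Submodule.span B (LogConn.gens nabla ω ι p) := by
  classical
  set l := J.card with hl
  have hKcard : K.val.card = p := K.prop
  have hlp : l ≤ p := by
    have := Finset.card_le_card hJ
    rw [hKcard] at this
    exact this
  have hcard : (K.val \ J).card = p - l := by
    rw [Finset.card_sdiff_of_subset hJ, hKcard]
  let g : Fin p → Fin n := fun k =>
    if hk : k.val < l then J.orderEmbOfFin rfl ⟨k.val, hk⟩
    else (K.val \ J).orderEmbOfFin hcard ⟨k.val - l, by omega⟩
  have hg1 : ∀ k : Fin p, k.val < l → g k ∈ J := by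
    intro k hk
    simp only [g, dif_pos hk]
    exact Finset.orderEmbOfFin_mem J rfl _
  have hg2 : ∀ k : Fin p, ¬ k.val < l → g k ∈ K.val \ J := by
    intro k hk
    simp only [g, dif_neg hk]
    exact Finset.orderEmbOfFin_mem (K.val \ J) hcard _
  have hgK : ∀ k, g k ∈ K.val := by
    intro k
    by_cases hk : k.val < l
    · exact hJ (hg1 k hk)
    · exact (Finset.mem_sdiff.mp (hg2 k hk)).1
  have hginj : Function.Injective g := by
    intro k k' h
    by_cases hk : k.val < l <;> by_cases hk' : k'.val < l
    · simp only [g, dif_pos hk, dif_pos hk'] at h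
      have := (J.orderEmbOfFin rfl).injective h
      apply Fin.ext
      exact Fin.mk.inj this
    · exfalso
      have h1 := hg1 k hk
      have h2 := hg2 k' hk'
      rw [h] at h1
      exact (Finset.mem_sdiff.mp h2).2 h1
    · exfalso
      have h1 := hg2 k hk
      have h2 := hg1 k' hk'
      rw [← h] at h2
      exact (Finset.mem_sdiff.mp h1).2 h2
    · simp only [g, dif_neg hk, dif_neg hk'] at h
      have := ((K.val \ J).orderEmbOfFin hcard).injective h
      have h3 : k.val - l = k'.val - l := Fin.mk.inj this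
      apply Fin.ext
      omega
  let c : Fin p → B := fun k => if k.val < l then 1 else t (g k)
  let v : Fin p → L := fun k => c k • ω (g k)
  have hv1 : ∀ (k : Fin p) (hk : k.val < J.card),
      v k = ω (J.orderEmbOfFin rfl ⟨k.val, hk⟩) := by
    intro k hk
    have hk' : k.val < l := hk
    simp only [v, c, if_pos hk', one_smul, g, dif_pos hk']
  have hv2 : ∀ k : Fin p, J.card ≤ k.val → v k ∈ LinearMap.range ι := by
    intro k hk
    have hk' : ¬ k.val < l := not_lt.mpr hk
    refine ⟨KaehlerDifferential.D A B (t (g k)), ?_⟩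
    simp only [v, c, if_neg hk']
    exact hι (g k)
  have hgen : LogConn.compProd nabla ω J e₀ ⊗ₜ[B] exteriorPower.ιMulti B p v ∈
      LogConn.gens nabla ω ι p :=
    ⟨J, hlp, e₀, v, hv1, hv2, rfl⟩
  have h1 : exteriorPower.ιMulti B p v = (∏ k, c k) • exteriorPower.ιMulti B p (⇑ω ∘ g) :=
    (exteriorPower.ιMulti B p).map_smul_univ c (⇑ω ∘ g)
  obtain ⟨σ, hσ, h2⟩ := ιMulti_perm_sorted (B := B) (⇑ω) K g hginj hgK
  have h3 : ∏ k, c k = ∏ i ∈ K.val \ J, t i := by
    have hc : ∀ k, c k = (fun j => if j ∈ J then 1 else t j) (g k) := by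
      intro k
      simp only [c]
      by_cases hk : k.val < l
      · rw [if_pos hk, if_pos (hg1 k hk)]
      · rw [if_neg hk, if_neg (Finset.mem_sdiff.mp (hg2 k hk)).2]
    rw [Finset.prod_congr rfl (fun k _ => hc k)]
    have hgσ : ∀ k, g k = (Set.powersetCard.ofFinEmbEquiv.symm K) (σ k) := fun k => congrFun hσ k
    simp_rw [hgσ]
    rw [Equiv.prod_comp σ (fun k => (fun j => if j ∈ J then 1 else t j)
      ((Set.powersetCard.ofFinEmbEquiv.symm K) k))]
    rw [prod_sorted K (fun j => if j ∈ J then 1 else t j), Finset.sdiff_eq_filter,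
      Finset.prod_filter]
    apply Finset.prod_congr rfl
    intro k _
    by_cases hk : k ∈ J
    · rw [if_pos hk, if_neg (not_not.mpr hk)]
    · rw [if_neg hk, if_pos hk]
  rw [exteriorPower.basis_apply]
  rcases Int.units_eq_one_or (Equiv.Perm.sign σ) with hs | hs
  · rw [hs, one_smul] at h2
    have h4 : ((∏ i ∈ K.val \ J, t i) • LogConn.compProd nabla ω J e₀) ⊗ₜ[B]
        (exteriorPower.ιMulti_family B p (⇑ω) K) =
        LogConn.compProd nabla ω J e₀ ⊗ₜ[B] exteriorPower.ιMulti B p v := by
      rw [h1, h2, h3, TensorProduct.tmul_smul, TensorProduct.smul_tmul']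
    rw [h4]
    exact Submodule.subset_span hgen
  · rw [hs, Units.neg_smul, one_smul] at h2
    have h4 : ((∏ i ∈ K.val \ J, t i) • LogConn.compProd nabla ω J e₀) ⊗ₜ[B]
        (exteriorPower.ιMulti_family B p (⇑ω) K) =
        -(LogConn.compProd nabla ω J e₀ ⊗ₜ[B] exteriorPower.ιMulti B p v) := by
      rw [h1, h2, h3, smul_neg, TensorProduct.tmul_neg, neg_neg, TensorProduct.tmul_smul,
        TensorProduct.smul_tmul']
    rw [h4]
    exact Submodule.neg_mem _ (Submodule.subset_span hgen)

include hbΩ hι hc in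
theorem main3 (p : ℕ) :
    (Submodule.span B (LogConn.gens nabla ω ι p)).restrictScalars A =
      LogConn.layer nabla ω t p := by
  classical
  apply le_antisymm
  · intro x hx
    rw [Submodule.restrictScalars_mem] at hx
    induction hx using Submodule.span_induction with
    | mem y hy => exact gen_mem_layer lam t bΩ hbΩ ω ι hι nabla hc p y hy
    | zero => exact Submodule.zero_mem _
    | add y z _ _ hy hz => exact Submodule.add_mem _ hy hz
    | smul b y _ hy => exact layer_smul_mem lam t bΩ hbΩ ω ι hι nabla hc p b y hy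
  · intro x hx
    rw [Submodule.restrictScalars_mem]
    have hxe : x = ∑ K, (LogConn.coordE (E := E) ω p K x) ⊗ₜ[B] (ω.exteriorPower p K) :=
      tensor_expand (ω.exteriorPower p) x
    have hxK : ∀ K : Set.powersetCard (Fin n) p,
        LogConn.coordE (E := E) ω p K x ∈ LogConn.piece nabla ω t (K : Finset (Fin n)) := by
      intro K
      unfold LogConn.layer at hx
      rw [Submodule.mem_iInf] at hx
      exact hx K
    rw [hxe]
    apply Submodule.sum_mem
    intro K _
    let φ : E →ₗ[A] E ⊗[B] ↥(⋀[B]^p L) :=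
      ((TensorProduct.mk B E ↥(⋀[B]^p L)).flip (ω.exteriorPower p K)).restrictScalars A
    have hφ : ∀ e, φ e = e ⊗ₜ[B] (ω.exteriorPower p K) := fun e => rfl
    have hle : LogConn.piece nabla ω t (K : Finset (Fin n)) ≤
        ((Submodule.span B (LogConn.gens nabla ω ι p)).restrictScalars A).comap φ := by
      unfold LogConn.piece
      refine iSup₂_le (fun J hJ => ?_)
      rintro _ ⟨y, rfl⟩
      rw [Submodule.mem_comap, Submodule.restrictScalars_mem, hφ]
      exact tmul_basis_mem_span_gen t ω ι hι nabla p K J (Finset.mem_powerset.mp hJ) y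
    have := hle (hxK K)
    rw [Submodule.mem_comap, Submodule.restrictScalars_mem, hφ] at this
    exact this

end Groth.Agent.Lib.Helper6.LogC
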